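import Mathlib
import Groth.Agent.Lib.Helper5.QRBC.A

set_option autoImplicit false
universe u v

open TensorProduct

namespace Groth.Agent.Lib.Helper5.FlatCx

section alg
variable {A : Type u} [CommRing A]

/-- the kernel of a surjection between flat modules is flat. -/
theorem flat_ker_of_surjective {N N'' : Type v} [AddCommGroup N] [Module A N] [AddCommGroup N'']
    [Module A N''] [Module.Flat A N] [Module.Flat A N''] (f : N →ₗ[A] N'')
    (hf : Function.Surjective f) : Module.Flat A (LinearMap.ker f) := by
  rw [Module.Flat.iff_rTensor_injective']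
  intro I
  have h1 : Function.Injective (LinearMap.lTensor I (LinearMap.ker f).subtype) :=
    LinearMap.lTensor_injective_of_exact_of_flat f hf _ (LinearMap.ker f).subtype_injective
      (LinearMap.exact_subtype_ker_map f) I
  have h2 : Function.Injective (LinearMap.rTensor N I.subtype) :=
    Module.Flat.rTensor_preserves_injective_linearMap _ Subtype.val_injective
  have h3 : (LinearMap.lTensor A (LinearMap.ker f).subtype) ∘ₗ
      (LinearMap.rTensor (LinearMap.ker f) I.subtype) =
      (LinearMap.rTensor N I.subtype) ∘ₗ (LinearMap.lTensor I (LinearMap.ker f).subtype) := by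
    ext x y
    simp
  have h4 : Function.Injective ((LinearMap.lTensor A (LinearMap.ker f).subtype) ∘ₗ
      (LinearMap.rTensor (LinearMap.ker f) I.subtype)) := by
    rw [h3]
    exact h2.comp h1
  exact Function.Injective.of_comp h4

theorem flat_prod (M N : Type v) [AddCommGroup M] [Module A M] [AddCommGroup N] [Module A N]
    [Module.Flat A M] [Module.Flat A N] : Module.Flat A (M × N) := by
  refine Groth.Agent.Lib.Helper5.QRBC.flat_of_exact (LinearMap.inl A M N) (LinearMap.snd A M N)
    LinearMap.inl_injective LinearMap.snd_surjective ?_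
  intro x
  constructor
  · intro hx
    exact ⟨x.1, Prod.ext rfl (by simpa using hx.symm)⟩
  · rintro ⟨y, rfl⟩
    simp

variable {X : ℤ → Type v} [∀ i, AddCommGroup (X i)] [∀ i, Module A (X i)]
    (d : ∀ i, X i →ₗ[A] X (i + 1)) (hex : ∀ i, Function.Exact (d i) (d (i + 1)))

/-- the map onto the cycles. -/
def toZ (i : ℤ) : X i →ₗ[A] LinearMap.ker (d (i + 1)) :=
  (d i).codRestrict (LinearMap.ker (d (i + 1))) (fun x => (hex i).apply_apply_eq_zero x)

theorem toZ_surjective (i : ℤ) : Function.Surjective (toZ d hex i) := by
  rintro ⟨y, hy⟩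
  obtain ⟨x, hx⟩ := (hex i y).1 hy
  exact ⟨x, Subtype.ext hx⟩

theorem ker_toZ (i : ℤ) : LinearMap.ker (toZ d hex i) = LinearMap.ker (d i) := by
  unfold toZ
  rw [LinearMap.ker_codRestrict]

theorem subtype_comp_toZ (i : ℤ) :
    (LinearMap.ker (d (i + 1))).subtype ∘ₗ toZ d hex i = d i := by
  ext x
  rfl

include hex in
theorem flat_Z [∀ i, Module.Flat A (X i)] (b : ℤ) (hb : ∀ i, b < i → Subsingleton (X i)) :
    ∀ i, Module.Flat A (LinearMap.ker (d i)) := by
  have hstep : ∀ i, Module.Flat A (LinearMap.ker (d (i + 1))) →
      Module.Flat A (LinearMap.ker (d i)) := by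
    intro i hi
    haveI := hi
    have := flat_ker_of_surjective (toZ d hex i) (toZ_surjective d hex i)
    rw [ker_toZ] at this
    exact this
  have key : ∀ n : ℕ, ∀ i, b + 1 - n ≤ i → Module.Flat A (LinearMap.ker (d i)) := by
    intro n
    induction n with
    | zero =>
      intro i hi
      haveI : Subsingleton (X i) := hb i (by simp at hi; omega)
      infer_instance
    | succ n ih =>
      intro i hi
      apply hstep
      apply ih
      push_cast at hi
      omega
  intro i
  exact key (b + 1 - i).toNat i (by omega)

include hex in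
theorem rTensor_exact_of_flat [∀ i, Module.Flat A (X i)] (b : ℤ)
    (hb : ∀ i, b < i → Subsingleton (X i))
    (M : Type v) [AddCommGroup M] [Module A M] (i : ℤ) :
    Function.Exact (LinearMap.rTensor M (d i)) (LinearMap.rTensor M (d (i + 1))) := by
  have hflat := flat_Z d hex b hb
  haveI := hflat (i + 1 + 1 + 1)
  -- injectivity of `Z (i+2) ⊗ M → X (i+2) ⊗ M`
  have hinj : Function.Injective
      (LinearMap.rTensor M (LinearMap.ker (d (i + 1 + 1))).subtype) := by
    have h1 := LinearMap.lTensor_injective_of_exact_of_flat (toZ d hex (i + 1 + 1))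
      (toZ_surjective d hex (i + 1 + 1)) (LinearMap.ker (d (i + 1 + 1))).subtype
      (LinearMap.ker (d (i + 1 + 1))).subtype_injective
      (by
        have := LinearMap.exact_subtype_ker_map (toZ d hex (i + 1 + 1))
        rw [ker_toZ] at this
        exact this) M
    have h2 : LinearMap.rTensor M (LinearMap.ker (d (i + 1 + 1))).subtype =
        (TensorProduct.comm A M _).toLinearMap ∘ₗ
          LinearMap.lTensor M (LinearMap.ker (d (i + 1 + 1))).subtype ∘ₗ
          (TensorProduct.comm A _ M).toLinearMap := by
      ext x m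
      simp
    rw [h2]
    exact (TensorProduct.comm A M _).injective.comp (h1.comp (TensorProduct.comm A _ M).injective)
  have hexZ : Function.Exact (LinearMap.rTensor M (LinearMap.ker (d (i + 1))).subtype)
      (LinearMap.rTensor M (toZ d hex (i + 1))) := by
    apply rTensor_exact M _ (toZ_surjective d hex (i + 1))
    have := LinearMap.exact_subtype_ker_map (toZ d hex (i + 1))
    rw [ker_toZ] at this
    exact this
  have hsurj : Function.Surjective (LinearMap.rTensor M (toZ d hex i)) :=
    LinearMap.rTensor_surjective M (toZ_surjective d hex i)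
  intro z
  constructor
  · intro hz
    rw [← subtype_comp_toZ d hex (i + 1), LinearMap.rTensor_comp, LinearMap.comp_apply] at hz
    have hz' : LinearMap.rTensor M (toZ d hex (i + 1)) z = 0 := by
      apply hinj
      rw [hz, map_zero]
    obtain ⟨w, rfl⟩ := (hexZ z).1 hz'
    obtain ⟨v, rfl⟩ := hsurj w
    refine ⟨v, ?_⟩
    rw [← LinearMap.comp_apply, ← LinearMap.rTensor_comp, subtype_comp_toZ]
  · rintro ⟨v, rfl⟩
    rw [← LinearMap.comp_apply, ← LinearMap.rTensor_comp]
    have : d (i + 1) ∘ₗ d i = 0 := by
      ext x
      exact (hex i).apply_apply_eq_zero x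
    rw [this, LinearMap.rTensor_zero, LinearMap.zero_apply]

end alg

end Groth.Agent.Lib.Helper5.FlatCx
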