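import Mathlib
import Groth.Agent.Lib.Helper5.FlatCx.A

set_option autoImplicit false
universe u v

open CategoryTheory CategoryTheory.Limits

namespace Groth.Agent.Lib.Helper5.FlatCx

section general
variable {C : Type u} [Category.{v} C] [Abelian C]

/-- A morphism of cochain complexes is a quasi-isomorphism iff its mapping cone is acyclic.
(Same proof as `Groth.Agent.H2.RDer.quasiIso_iff_mappingCone_exactAt`.) -/
lemma quasiIso_iff_mappingCone_exactAt {K L : CochainComplex C ℤ} (f : K ⟶ L) :
    QuasiIso f ↔ ∀ n, (CochainComplex.mappingCone f).ExactAt n := by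
  have h1 : HomotopyCategory.quasiIso C (ComplexShape.up ℤ)
      ((HomotopyCategory.quotient C (ComplexShape.up ℤ)).map f) ↔ QuasiIso f := by
    rw [HomotopyCategory.quotient_map_mem_quasiIso_iff]
    exact HomologicalComplex.mem_quasiIso_iff f
  have key := (HomotopyCategory.subcategoryAcyclic C).trW_iff_of_distinguished _
    (HomotopyCategory.mappingCone_triangleh_distinguished f)
  have key' : (HomotopyCategory.subcategoryAcyclic C).trW
      ((HomotopyCategory.quotient C (ComplexShape.up ℤ)).map f) ↔
      HomotopyCategory.subcategoryAcyclic C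
        ((HomotopyCategory.quotient C (ComplexShape.up ℤ)).obj (CochainComplex.mappingCone f)) :=
    key
  rw [← h1, HomotopyCategory.quasiIso_eq_trW_subcategoryAcyclic, key']
  exact HomotopyCategory.quotient_obj_mem_subcategoryAcyclic_iff_exactAt _

end general

section mod
variable {A : Type u} [CommRing A]

theorem exactAt_iff_function_exact (K : CochainComplex (ModuleCat.{u} A) ℤ) (i : ℤ) :
    K.ExactAt (i + 1) ↔
      Function.Exact (K.d i (i + 1)).hom (K.d (i + 1) (i + 1 + 1)).hom := by
  rw [K.exactAt_iff' i (i + 1) (i + 1 + 1) (by simp) (by simp),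
    ShortComplex.ShortExact.moduleCat_exact_iff_function_exact]
  rfl

theorem exactAt_all_iff (K : CochainComplex (ModuleCat.{u} A) ℤ) :
    (∀ n, K.ExactAt n) ↔
      ∀ i, Function.Exact (K.d i (i + 1)).hom (K.d (i + 1) (i + 1 + 1)).hom := by
  constructor
  · intro h i
    exact (exactAt_iff_function_exact K i).1 (h (i + 1))
  · intro h n
    have := (exactAt_iff_function_exact K (n - 1)).2 (h (n - 1))
    simpa using this

/-- acyclic bounded above complexes of flat modules stay acyclic after tensoring. -/
theorem acyclic_tensor (K : CochainComplex (ModuleCat.{u} A) ℤ)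
    (hK : ∀ i, Module.Flat A (K.X i)) (b : ℤ) (hb : ∀ i, b < i → IsZero (K.X i))
    (hex : ∀ n, K.ExactAt n) (M : ModuleCat.{u} A) :
    ∀ n, (((MonoidalCategory.tensorRight M).mapHomologicalComplex (ComplexShape.up ℤ)).obj
      K).ExactAt n := by
  rw [exactAt_all_iff] at hex ⊢
  intro i
  haveI := hK
  have hb' : ∀ i, b < i → Subsingleton (K.X i) := fun i hi =>
    ModuleCat.subsingleton_of_isZero (hb i hi)
  exact rTensor_exact_of_flat (X := fun i => K.X i) (fun i => (K.d i (i + 1)).hom) hex b hb' M i

end mod

end Groth.Agent.Lib.Helper5.FlatCx
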