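import Mathlib
import Groth.Agent.Lib.Helper5.FlatCx.B

set_option autoImplicit false
universe u v

open CategoryTheory CategoryTheory.Limits

namespace Groth.Agent.Lib.Helper5.FlatCx

variable {A : Type u} [CommRing A]

theorem flat_of_iso {M N : ModuleCat.{u} A} (e : M ≅ N) [Module.Flat A M] : Module.Flat A N :=
  Module.Flat.of_linearEquiv e.toLinearEquiv.symm

theorem flat_biprod (M N : ModuleCat.{u} A) [Module.Flat A M] [Module.Flat A N] :
    Module.Flat A ↑(M ⊞ N) := by
  haveI : Module.Flat A (M × N) := flat_prod M N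
  haveI : Module.Flat A ↑(ModuleCat.of A (M × N)) := inferInstanceAs (Module.Flat A (M × N))
  exact flat_of_iso (ModuleCat.biprodIsoProd M N).symm

theorem main (C D : CochainComplex (ModuleCat.{u} A) ℤ)
    (hC : ∀ i, Module.Flat A (C.X i)) (hD : ∀ i, Module.Flat A (D.X i))
    (bC : ∃ b : ℤ, ∀ i, b < i → IsZero (C.X i)) (bD : ∃ b : ℤ, ∀ i, b < i → IsZero (D.X i))
    (φ : C ⟶ D) [QuasiIso φ] (M : ModuleCat.{u} A) :
    QuasiIso (((MonoidalCategory.tensorRight M).mapHomologicalComplex (ComplexShape.up ℤ)).map φ) := by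
  obtain ⟨b₁, hb₁⟩ := bC
  obtain ⟨b₂, hb₂⟩ := bD
  let K := CochainComplex.mappingCone φ
  have hKiso : ∀ i : ℤ, K.X i ≅ C.X (i + 1) ⊞ D.X i := fun i =>
    HomologicalComplex.homotopyCofiber.XIsoBiprod φ i (i + 1) (by simp)
  have hKflat : ∀ i, Module.Flat A (K.X i) := by
    intro i
    haveI := hC (i + 1)
    haveI := hD i
    haveI := flat_biprod (C.X (i + 1)) (D.X i)
    exact flat_of_iso (hKiso i).symm
  have hKb : ∀ i, max b₁ b₂ < i → IsZero (K.X i) := by
    intro i hi
    refine IsZero.of_iso ?_ (hKiso i)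
    have h1 : IsZero (C.X (i + 1)) := hb₁ _ (by have := le_max_left b₁ b₂; omega)
    have h2 : IsZero (D.X i) := hb₂ _ (by have := le_max_right b₁ b₂; omega)
    rw [IsZero.iff_id_eq_zero]
    apply biprod.hom_ext
    · exact h1.eq_of_tgt _ _
    · exact h2.eq_of_tgt _ _
  have hKex : ∀ n, K.ExactAt n := (quasiIso_iff_mappingCone_exactAt φ).1 inferInstance
  have hT := acyclic_tensor K hKflat (max b₁ b₂) hKb hKex M
  rw [quasiIso_iff_mappingCone_exactAt]
  intro n
  have e := CochainComplex.mappingCone.mapHomologicalComplexIso φ (MonoidalCategory.tensorRight M)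
  exact (hT n).of_iso e

end Groth.Agent.Lib.Helper5.FlatCx
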