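import Mathlib
import Groth.Agent.Lib.Helper5.FlatCx.B

set_option autoImplicit false
universe u v

open TensorProduct

namespace Groth.Agent.Lib.Helper5.FlatCx

theorem exact_of_ladder {X0 X1 X2 Y0 Y1 Y2 : Type*} [Zero X2] [Zero Y2]
    (f : X0 → X1) (g : X1 → X2) (f' : Y0 → Y1) (g' : Y1 → Y2)
    (e0 : Y0 → X0) (he0 : Function.Surjective e0) (e1 : Y1 ≃ X1) (e2 : Y2 → X2)
    (he2 : ∀ y, e2 y = 0 ↔ y = 0)
    (h1 : ∀ y, e1 (f' y) = f (e0 y)) (h2 : ∀ y, e2 (g' y) = g (e1 y))
    (H : Function.Exact f g) : Function.Exact f' g' := by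
  intro y
  rw [← he2, h2, H (e1 y)]
  constructor
  · rintro ⟨x, hx⟩
    obtain ⟨y0, rfl⟩ := he0 x
    refine ⟨y0, e1.injective ?_⟩
    rw [h1, hx]
  · rintro ⟨y0, rfl⟩
    exact ⟨e0 y0, (h1 y0).symm⟩

section localcase
variable {R : Type u} [CommRing R] [IsLocalRing R]
    {X0 X1 X2 P : Type v} [AddCommGroup X0] [Module R X0] [AddCommGroup X1] [Module R X1]
    [AddCommGroup X2] [Module R X2] [AddCommGroup P] [Module R P]

theorem free_of_exact_fibre (f : X0 →ₗ[R] X1) (g : X1 →ₗ[R] X2) (π : X2 →ₗ[R] P)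
    (hgf : g ∘ₗ f = 0) (hπ : Function.Surjective π) (hgπ : Function.Exact g π)
    [Module.Finite R X1] [Module.Finite R X2] [Module.Free R X2]
    (hk : Function.Exact (LinearMap.lTensor (IsLocalRing.ResidueField R) f)
      (LinearMap.lTensor (IsLocalRing.ResidueField R) g)) : Module.Free R P := by
  have hle : LinearMap.range f ≤ LinearMap.ker g := by
    rintro _ ⟨x, rfl⟩
    exact LinearMap.congr_fun hgf x
  let gbar : (X1 ⧸ LinearMap.range f) →ₗ[R] X2 := (LinearMap.range f).liftQ g hle
  have hex : Function.Exact gbar π := by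
    intro y
    rw [hgπ y]
    constructor
    · rintro ⟨x, rfl⟩
      exact ⟨Submodule.Quotient.mk x, rfl⟩
    · rintro ⟨x, rfl⟩
      obtain ⟨x, rfl⟩ := Submodule.Quotient.mk_surjective _ x
      exact ⟨x, rfl⟩
  refine Module.free_of_lTensor_residueField_injective gbar π hπ hex ?_
  rw [injective_iff_map_eq_zero]
  intro z hz
  obtain ⟨x, rfl⟩ := LinearMap.lTensor_surjective (IsLocalRing.ResidueField R)
    (Submodule.mkQ_surjective (LinearMap.range f)) z
  rw [← LinearMap.comp_apply, ← LinearMap.lTensor_comp] at hz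
  have h1 : gbar ∘ₗ (LinearMap.range f).mkQ = g := by
    ext x
    rfl
  rw [h1] at hz
  obtain ⟨w, rfl⟩ := (hk x).1 hz
  rw [← LinearMap.comp_apply, ← LinearMap.lTensor_comp]
  have h2 : (LinearMap.range f).mkQ ∘ₗ f = 0 := by
    ext x
    simp
  rw [h2, LinearMap.lTensor_zero, LinearMap.zero_apply]

end localcase

section transfer
variable {A : Type u} [CommRing A] (m : Ideal A) [hm : m.IsMaximal]

/-- `A ⧸ m ≃ κ(m)` as `A`-modules. -/
noncomputable def quotEquivResidue : (A ⧸ m) ≃ₗ[A] m.ResidueField :=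
  LinearEquiv.ofBijective (IsScalarTower.toAlgHom A (A ⧸ m) m.ResidueField).toLinearMap
    m.bijective_algebraMap_quotient_residueField

/-- the comparison `κ ⊗_{A_m} (A_m ⊗_A X) ≃ X ⊗_A A/m`. -/
noncomputable def fibreEquiv (X : Type v) [AddCommGroup X] [Module A X] :
    (IsLocalRing.ResidueField (Localization.AtPrime m)) ⊗[Localization.AtPrime m]
      (Localization.AtPrime m ⊗[A] X) ≃+ X ⊗[A] (A ⧸ m) :=
  (TensorProduct.AlgebraTensorModule.cancelBaseChange A (Localization.AtPrime m)
      (Localization.AtPrime m) (IsLocalRing.ResidueField (Localization.AtPrime m)) X).toAddEquiv.trans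
    ((TensorProduct.congr (quotEquivResidue m).symm (LinearEquiv.refl A X)).toAddEquiv.trans
      (TensorProduct.comm A (A ⧸ m) X).toAddEquiv)

theorem fibreEquiv_tmul (X : Type v) [AddCommGroup X] [Module A X]
    (c : IsLocalRing.ResidueField (Localization.AtPrime m)) (r : Localization.AtPrime m) (x : X) :
    fibreEquiv m X (c ⊗ₜ (r ⊗ₜ x)) = x ⊗ₜ ((quotEquivResidue m).symm (r • c)) := by
  change (TensorProduct.comm A (A ⧸ m) X)
    ((TensorProduct.congr (quotEquivResidue m).symm (LinearEquiv.refl A X))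
      ((TensorProduct.AlgebraTensorModule.cancelBaseChange A (Localization.AtPrime m)
        (Localization.AtPrime m) (IsLocalRing.ResidueField (Localization.AtPrime m)) X)
        (c ⊗ₜ (r ⊗ₜ x)))) = _
  rw [TensorProduct.AlgebraTensorModule.cancelBaseChange_tmul, TensorProduct.congr_tmul,
    TensorProduct.comm_tmul]
  rfl

theorem fibreEquiv_natural {X Y : Type v} [AddCommGroup X] [Module A X] [AddCommGroup Y]
    [Module A Y] (f : X →ₗ[A] Y)
    (z : (IsLocalRing.ResidueField (Localization.AtPrime m)) ⊗[Localization.AtPrime m]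
      (Localization.AtPrime m ⊗[A] X)) :
    fibreEquiv m Y (LinearMap.lTensor _ (f.baseChange (Localization.AtPrime m)) z) =
      LinearMap.rTensor (A ⧸ m) f (fibreEquiv m X z) := by
  induction z using TensorProduct.induction_on with
  | zero => simp
  | tmul c w =>
    induction w using TensorProduct.induction_on with
    | zero => simp
    | tmul r x =>
      rw [LinearMap.lTensor_tmul, LinearMap.baseChange_tmul, fibreEquiv_tmul, fibreEquiv_tmul,
        LinearMap.rTensor_tmul]
    | add a b ha hb =>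
      rw [TensorProduct.tmul_add, map_add, map_add, map_add, map_add, ha, hb]
  | add a b ha hb => rw [map_add, map_add, map_add, map_add, ha, hb]

theorem fibre_exact {X0 X1 X2 : Type v} [AddCommGroup X0] [Module A X0] [AddCommGroup X1]
    [Module A X1] [AddCommGroup X2] [Module A X2] (f : X0 →ₗ[A] X1) (g : X1 →ₗ[A] X2)
    (H : Function.Exact (LinearMap.rTensor (A ⧸ m) f) (LinearMap.rTensor (A ⧸ m) g)) :
    Function.Exact
      (LinearMap.lTensor (IsLocalRing.ResidueField (Localization.AtPrime m))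
        (f.baseChange (Localization.AtPrime m)))
      (LinearMap.lTensor (IsLocalRing.ResidueField (Localization.AtPrime m))
        (g.baseChange (Localization.AtPrime m))) := by
  refine exact_of_ladder _ _ _ _ (fibreEquiv m X0) (fibreEquiv m X0).surjective
    (fibreEquiv m X1).toEquiv (fibreEquiv m X2) (fun y => ?_) (fun y => ?_) (fun y => ?_) H
  · exact (fibreEquiv m X2).map_eq_zero_iff
  · exact fibreEquiv_natural m f y
  · exact fibreEquiv_natural m g y

end transfer

end Groth.Agent.Lib.Helper5.FlatCx
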