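import Mathlib
import Groth.Agent.Lib.Helper5.FlatCx.D
import Groth.Prelude.Def_ega3

set_option autoImplicit false
universe u v

open TensorProduct

namespace Groth.Agent.Lib.Helper5.FlatCx

section glob
variable {A : Type u} [CommRing A] [IsNoetherianRing A]
    {X0 X1 X2 P : Type u} [AddCommGroup X0] [Module A X0] [AddCommGroup X1] [Module A X1]
    [AddCommGroup X2] [Module A X2] [AddCommGroup P] [Module A P]

theorem projective_of_exact_fibres (f : X0 →ₗ[A] X1) (g : X1 →ₗ[A] X2) (π : X2 →ₗ[A] P)
    (hgf : g ∘ₗ f = 0) (hπ : Function.Surjective π) (hgπ : Function.Exact g π)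
    [Module.Finite A X1] [Module.Finite A X2] [Module.Projective A X2]
    (hk : ∀ (m : Ideal A) [m.IsMaximal],
      Function.Exact (LinearMap.rTensor (A ⧸ m) f) (LinearMap.rTensor (A ⧸ m) g)) :
    Module.Projective A P := by
  haveI : Module.Finite A P := Module.Finite.of_surjective π hπ
  haveI : Module.FinitePresentation A P := Module.finitePresentation_of_finite A P
  refine Module.projective_of_localization_maximal'
    (fun m _ => Localization.AtPrime m) (fun m _ => Localization.AtPrime m ⊗[A] P)
    (fun m _ => TensorProduct.mk A (Localization.AtPrime m) P 1) ?_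
  intro m hm
  let R' := Localization.AtPrime m
  haveI : Module.Free R' (R' ⊗[A] X2) := Module.free_of_flat_of_isLocalRing
  have hfree : Module.Free R' (R' ⊗[A] P) := by
    refine free_of_exact_fibre (f.baseChange R') (g.baseChange R') (π.baseChange R') ?_ ?_ ?_
      (fibre_exact m f g (hk m))
    · rw [← LinearMap.baseChange_comp, hgf, LinearMap.baseChange_zero]
    · exact LinearMap.lTensor_surjective R' hπ
    · exact lTensor_exact R' hgπ hπ
  infer_instance

end glob

section cat
open CategoryTheory CategoryTheory.Limits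

theorem main14611 (A : Type u) [CommRing A] [IsNoetherianRing A]
    (Q : CochainComplex (ModuleCat.{u} A) ℤ)
    (hQ : ∀ i, Module.Finite A (Q.X i) ∧ Module.Projective A (Q.X i)) (d : ℤ)
    (h2 : ∀ (m : Ideal A) [m.IsMaximal], ∀ p < d,
      IsZero ((CohIII.tensorObj Q (ModuleCat.of A (A ⧸ m))).homology p)) :
    Module.Projective A (Q.opcycles d) := by
  obtain ⟨i, rfl⟩ : ∃ i, d = i + 1 + 1 := ⟨d - 1 - 1, by ring⟩
  haveI := (hQ (i + 1)).1
  haveI := (hQ (i + 1 + 1)).1
  haveI := (hQ (i + 1 + 1)).2
  let S : ShortComplex (ModuleCat.{u} A) :=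
    ShortComplex.mk (Q.d (i + 1) (i + 1 + 1)) (Q.pOpcycles (i + 1 + 1)) (Q.d_pOpcycles _ _)
  have hS : S.Exact :=
    ShortComplex.exact_of_g_is_cokernel S (Q.opcyclesIsCokernel (i + 1) (i + 1 + 1) (by simp))
  rw [ShortComplex.ShortExact.moduleCat_exact_iff_function_exact] at hS
  have hπ : Function.Surjective (Q.pOpcycles (i + 1 + 1)).hom :=
    (ModuleCat.epi_iff_surjective _).1 inferInstance
  refine projective_of_exact_fibres (Q.d i (i + 1)).hom (Q.d (i + 1) (i + 1 + 1)).hom
    (Q.pOpcycles (i + 1 + 1)).hom ?_ hπ hS ?_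
  · rw [← ModuleCat.hom_comp, Q.d_comp_d]
    rfl
  · intro m _
    have h := h2 m (i + 1) (by omega)
    rw [← HomologicalComplex.exactAt_iff_isZero_homology, exactAt_iff_function_exact] at h
    exact h

end cat

end Groth.Agent.Lib.Helper5.FlatCx
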